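import Groth.Agent.GrpSchLib.UnitsScheme
import Groth.Agent.GrpSchLib.Action
import Groth.Prelude.Def_GLinSh
import Mathlib.AlgebraicGeometry.AffineScheme

/-!
# Points of line bundles in coordinates
-/

set_option linter.style.haveILetI false
set_option backward.isDefEq.respectTransparency false

universe u

open CategoryTheory MonoidalCategory CartesianMonoidalCategory MonObj GrpObj AlgebraicGeometry

namespace Groth.Agent.GITLin

open GrpSchLib.Kunneth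

variable {k : Type u} [Field k]

local notation "𝟙k" => 𝟙_ (Over (Spec (CommRingCat.of k)))

variable {G X V T : Over (Spec (CommRingCat.of k))} (π : V ⟶ X)

/-- A point over `U` factors through the preimage of `U`. -/
theorem top_le_of_mem (z : 𝟙k ⟶ V) {U : X.left.Opens} (h : (z ≫ π).left.base (IsLocalRing.closedPoint k) ∈ U) :
    (⊤ : (𝟙k).left.Opens) ≤ z.left ⁻¹ᵁ (π.left ⁻¹ᵁ U) := fun t _ => by
  rw [show t = IsLocalRing.closedPoint k from Subsingleton.elim (α := Spec (CommRingCat.of k)) t _]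
  exact h

/-- The coordinate of a point. -/
noncomputable def val {U : X.left.Opens} (y : Γ(V.left, π.left ⁻¹ᵁ U)) (z : T ⟶ V)
    (h : (⊤ : T.left.Opens) ≤ z.left ⁻¹ᵁ (π.left ⁻¹ᵁ U)) : Fn T :=
  z.left.appLE (π.left ⁻¹ᵁ U) ⊤ h y

theorem val_comp {U : X.left.Opens} (y : Γ(V.left, π.left ⁻¹ᵁ U)) {T' : Over (Spec (CommRingCat.of k))}
    (f : T' ⟶ T) (z : T ⟶ V) (h : (⊤ : T.left.Opens) ≤ z.left ⁻¹ᵁ (π.left ⁻¹ᵁ U))
    (h' : (⊤ : T'.left.Opens) ≤ (f ≫ z).left ⁻¹ᵁ (π.left ⁻¹ᵁ U)) :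
    val π y (f ≫ z) h' = ev f (val π y z h) := by
  show (f.left ≫ z.left).appLE _ _ _ y = f.left.appTop (z.left.appLE _ _ h y)
  rw [show f.left.appTop = f.left.appLE ⊤ ⊤ (fun _ _ => trivial) from Scheme.Hom.app_eq_appLE .., ← CommRingCat.comp_apply,
    Scheme.Hom.appLE_comp_appLE]

/-- The coordinate of a rational point, as a scalar. -/
noncomputable def pval {U : X.left.Opens} (y : Γ(V.left, π.left ⁻¹ᵁ U)) (z : 𝟙k ⟶ V)
    (h : (z ≫ π).left.base (IsLocalRing.closedPoint k) ∈ U) : k :=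
  (Scheme.ΓSpecIso (CommRingCat.of k)).hom (val π y z (top_le_of_mem π z h))

theorem evPt_val {U : X.left.Opens} (y : Γ(V.left, π.left ⁻¹ᵁ U)) (f : 𝟙k ⟶ T) (z : T ⟶ V)
    (h : (⊤ : T.left.Opens) ≤ z.left ⁻¹ᵁ (π.left ⁻¹ᵁ U))
    (h' : ((f ≫ z) ≫ π).left.base (IsLocalRing.closedPoint k) ∈ U) :
    evPt f (val π y z h) = pval π y (f ≫ z) h' := by
  rw [pval, val_comp π y f z h]
  rfl

theorem pval_congr {U : X.left.Opens} (y : Γ(V.left, π.left ⁻¹ᵁ U)) {z z' : 𝟙k ⟶ V} (e : z = z')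
    (h : (z ≫ π).left.base (IsLocalRing.closedPoint k) ∈ U)
    (h' : (z' ≫ π).left.base (IsLocalRing.closedPoint k) ∈ U) :
    pval π y z h = pval π y z' h' := by
  subst e
  rfl

/-- Over a coordinate chart a point is determined by its image and its coordinate. -/
theorem eq_of_pval_eq (A : GLinSh.LinAtlas π) {U : X.left.Opens} (y : Γ(V.left, π.left ⁻¹ᵁ U)) (hy : y ∈ A.chart U)
    {z z' : 𝟙k ⟶ V} (e : z ≫ π = z' ≫ π) (h : (z ≫ π).left.base (IsLocalRing.closedPoint k) ∈ U)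
    (h' : (z' ≫ π).left.base (IsLocalRing.closedPoint k) ∈ U)
    (hv : pval π y z h = pval π y z' h') : z = z' := by
  obtain ⟨_, ⟨W, hW, rfl⟩, hxW, hWU⟩ :=
    X.left.isBasis_affineOpens.exists_subset_of_mem_open h U.isOpen
  replace hWU : W ≤ U := hWU
  haveI := A.affine
  have hV : IsAffineOpen (π.left ⁻¹ᵁ W) := hW.preimage π.left
  haveI : IsAffine (π.left ⁻¹ᵁ W).toScheme := hV
  have hz := top_le_of_mem π z (U := W) hxW
  have hz' := top_le_of_mem π z' (U := W) (by rw [← e]; exact hxW)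
  have hbase : ∀ a : Γ(X.left, W), z.left.appLE (π.left ⁻¹ᵁ W) ⊤ hz (π.left.app W a) =
      z'.left.appLE (π.left ⁻¹ᵁ W) ⊤ hz' (π.left.app W a) := by
    intro a
    rw [Scheme.Hom.app_eq_appLE, ← CommRingCat.comp_apply, ← CommRingCat.comp_apply, Scheme.Hom.appLE_comp_appLE,
      Scheme.Hom.appLE_comp_appLE]
    have e' : z.left ≫ π.left = z'.left ≫ π.left := congrArg CommaMorphism.left e
    simp only [e']
  have hy' : z.left.appLE (π.left ⁻¹ᵁ W) ⊤ hz (GLinSh.res π hWU y) =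
      z'.left.appLE (π.left ⁻¹ᵁ W) ⊤ hz' (GLinSh.res π hWU y) := by
    rw [← CommRingCat.comp_apply, ← CommRingCat.comp_apply, Scheme.Hom.map_appLE, Scheme.Hom.map_appLE]
    exact (ConcreteCategory.bijective_of_isIso (Scheme.ΓSpecIso (CommRingCat.of k)).hom).1 hv
  have hall : z.left.appLE (π.left ⁻¹ᵁ W) ⊤ hz = z'.left.appLE (π.left ⁻¹ᵁ W) ⊤ hz' := by
    refine CommRingCat.hom_ext (RingHom.ext fun b => ?_)
    obtain ⟨p, rfl⟩ := (A.coord U y hy W hW hWU).2 b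
    induction p using Polynomial.induction_on' with
    | add p q hp hq => simp only [map_add, hp, hq]
    | monomial n a =>
      simp only [Polynomial.coe_eval₂RingHom, Polynomial.eval₂_monomial, map_mul, map_pow]
      rw [hbase a, hy']
  have hr : ∀ (w : 𝟙k ⟶ V), (⊤ : (𝟙k).left.Opens) ≤ w.left ⁻¹ᵁ (π.left ⁻¹ᵁ W) →
      Set.range w.left.base ⊆ Set.range (π.left ⁻¹ᵁ W).ι.base := by
    rintro w hw _ ⟨t, rfl⟩
    rw [Scheme.Opens.range_ι]
    exact hw trivial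
  let l := IsOpenImmersion.lift (π.left ⁻¹ᵁ W).ι z.left (hr z hz)
  let l' := IsOpenImmersion.lift (π.left ⁻¹ᵁ W).ι z'.left (hr z' hz')
  have hl : l ≫ (π.left ⁻¹ᵁ W).ι = z.left := IsOpenImmersion.lift_fac _ _ _
  have hl' : l' ≫ (π.left ⁻¹ᵁ W).ι = z'.left := IsOpenImmersion.lift_fac _ _ _
  have hι : (π.left ⁻¹ᵁ W).ι.appLE (π.left ⁻¹ᵁ W) ⊤ (by simp) ≫ l.appTop =
      (π.left ⁻¹ᵁ W).ι.appLE (π.left ⁻¹ᵁ W) ⊤ (by simp) ≫ l'.appTop := by
    rw [show l.appTop = l.appLE ⊤ ⊤ (fun _ _ => trivial) from Scheme.Hom.app_eq_appLE ..,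
      show l'.appTop = l'.appLE ⊤ ⊤ (fun _ _ => trivial) from Scheme.Hom.app_eq_appLE ..,
      Scheme.Hom.appLE_comp_appLE, Scheme.Hom.appLE_comp_appLE]
    simp only [hl, hl']
    exact hall
  haveI : IsIso ((π.left ⁻¹ᵁ W).ι.appLE (π.left ⁻¹ᵁ W) ⊤ (by simp)) := by
    rw [Scheme.Opens.ι_appLE]
    haveI : IsIso (homOfLE (show (π.left ⁻¹ᵁ W).ι ''ᵁ ⊤ ≤ π.left ⁻¹ᵁ W by simp)).op := by
      haveI : IsIso (homOfLE (show (π.left ⁻¹ᵁ W).ι ''ᵁ ⊤ ≤ π.left ⁻¹ᵁ W by simp)) :=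
        ⟨⟨homOfLE (by simp), Subsingleton.elim _ _, Subsingleton.elim _ _⟩⟩
      infer_instance
    exact Functor.map_isIso _ _
  have hll : l = l' := ext_of_isAffine ((cancel_epi _).mp hι)
  refine Over.OverMorphism.ext ?_
  rw [← hl, ← hl', hll]

variable [GrpObj G] (a : AlgGrp.Action G X) (Φ : AlgGrp.Action G V)

/-- A fibrewise linear lift multiplies coordinates by a scalar. -/
theorem exists_pval_lift (A : GLinSh.LinAtlas π) (hπ : Φ.act ≫ π = (G ◁ π) ≫ a.act)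
    (hl : GLinSh.IsLinearLift a π Φ A.chart hπ) {U U' : X.left.Opens} {y : Γ(V.left, π.left ⁻¹ᵁ U)}
    {y' : Γ(V.left, π.left ⁻¹ᵁ U')} (hy : y ∈ A.chart U) (hy' : y' ∈ A.chart U') (g : 𝟙k ⟶ G) (v : 𝟙k ⟶ V)
    (h : (v ≫ π).left.base (IsLocalRing.closedPoint k) ∈ U)
    (h' : ((lift g v ≫ Φ.act) ≫ π).left.base (IsLocalRing.closedPoint k) ∈ U') :
    ∃ c : k, pval π y' (lift g v ≫ Φ.act) h' = c * pval π y v h := by
  obtain ⟨c, hc⟩ := hl U U' y y' hy hy'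
  have hp : (⊤ : (𝟙k).left.Opens) ≤ (lift g v).left ⁻¹ᵁ GLinSh.liftOpen a π U U' := fun t _ => by
    rw [show t = IsLocalRing.closedPoint k from Subsingleton.elim (α := Spec (CommRingCat.of k)) t _]
    refine ⟨?_, ?_⟩
    · show (lift g v ≫ (G ◁ π) ≫ a.act).left.base _ ∈ U'
      rw [← hπ, ← Category.assoc]
      exact h'
    · show (lift g v ≫ (G ◁ π) ≫ snd G X).left.base _ ∈ U
      rw [whiskerLeft_snd, lift_snd_assoc]
      exact h
  have e := congrArg ((lift g v).left.appLE (GLinSh.liftOpen a π U U') ⊤ hp) hc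
  rw [map_mul, ← CommRingCat.comp_apply (Φ.act.left.appLE _ _ _), ← CommRingCat.comp_apply ((snd G V).left.appLE _ _ _),
    Scheme.Hom.appLE_comp_appLE, Scheme.Hom.appLE_comp_appLE] at e
  refine ⟨(Scheme.ΓSpecIso (CommRingCat.of k)).hom ((lift g v).left.appLE (GLinSh.liftOpen a π U U') ⊤ hp
    ((G ◁ π).left.appLE _ _ (GLinSh.liftOpen_le_base a π) c)), ?_⟩
  have e2 := congrArg (Scheme.ΓSpecIso (CommRingCat.of k)).hom e
  rw [map_mul] at e2
  refine e2.trans ?_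
  congr 1
  show (Scheme.ΓSpecIso (CommRingCat.of k)).hom _ = (Scheme.ΓSpecIso (CommRingCat.of k)).hom _
  have e3 : (lift g v).left ≫ (snd G V).left = v.left := by rw [← Over.comp_left, lift_snd]
  simp only [e3]
  rfl

end Groth.Agent.GITLin
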