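import Groth.Prelude.Def_GLinSh
import Mathlib.AlgebraicGeometry.Properties
import Mathlib.AlgebraicGeometry.Morphisms.FiniteType
import Mathlib.RingTheory.Polynomial.Nilpotent
import Mathlib.RingTheory.FiniteType

/-!
# The total space of a line bundle given by a linear atlas
-/

set_option linter.style.haveILetI false

universe u

open CategoryTheory AlgebraicGeometry

namespace Groth.Agent.GITLin

variable {S : Scheme.{u}} {X V : Over S} {π : V ⟶ X}

theorem exists_affine_chart (A : GLinSh.LinAtlas π) (x : X.left) :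
    ∃ (W : X.left.Opens) (U : X.left.Opens) (y : Γ(V.left, π.left ⁻¹ᵁ U)),
      IsAffineOpen W ∧ x ∈ W ∧ W ≤ U ∧ y ∈ A.chart U := by
  obtain ⟨U, hxU, y, hy⟩ := A.cover x
  obtain ⟨_, ⟨W, hW, rfl⟩, hxW, hWU⟩ :=
    X.left.isBasis_affineOpens.exists_subset_of_mem_open hxU U.isOpen
  exact ⟨W, U, y, hW, hxW, hWU, hy⟩

/-- The total space over a reduced base is reduced. -/
theorem isReduced_total (A : GLinSh.LinAtlas π) [IsReduced X.left] : IsReduced V.left := by
  haveI := A.affine
  have h : ∀ x : V.left, _root_.IsReduced (V.left.presheaf.stalk x) := by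
    intro x
    obtain ⟨W, U, y, hW, hxW, hWU, hy⟩ := exists_affine_chart A (π.left.base x)
    haveI : IsAffine (π.left ⁻¹ᵁ W).toScheme := hW.preimage π.left
    haveI : _root_.IsReduced (Polynomial Γ(X.left, W)) := ⟨fun p hp => Polynomial.ext fun n => by
      simpa using (Polynomial.isNilpotent_iff.mp hp n).eq_zero⟩
    haveI : _root_.IsReduced Γ(V.left, π.left ⁻¹ᵁ W) :=
      isReduced_of_injective (RingEquiv.ofBijective _ (A.coord U y hy W hW hWU)).symm
        (RingEquiv.injective _)
    haveI : _root_.IsReduced Γ((π.left ⁻¹ᵁ W).toScheme, ⊤) :=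
      isReduced_of_injective (π.left ⁻¹ᵁ W).topIso.hom.hom
        (ConcreteCategory.bijective_of_isIso (π.left ⁻¹ᵁ W).topIso.hom).1
    haveI : IsReduced (π.left ⁻¹ᵁ W).toScheme := isReduced_of_isAffine_isReduced _
    exact isReduced_of_injective ((π.left ⁻¹ᵁ W).stalkIso ⟨x, hxW⟩).inv.hom
      (ConcreteCategory.bijective_of_isIso ((π.left ⁻¹ᵁ W).stalkIso ⟨x, hxW⟩).inv).1
  exact isReduced_of_isReduced_stalk _

/-- The projection of a line bundle is locally of finite type. -/
theorem locallyOfFiniteType_proj (A : GLinSh.LinAtlas π) : LocallyOfFiniteType π.left := by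
  haveI := A.affine
  refine (HasRingHomProperty.iff_exists_appLE (P := @LocallyOfFiniteType)
    (RingHom.finiteType_stableUnderComposition.stableUnderCompositionWithLocalizationAway
      RingHom.finiteType_holdsForLocalizationAway).1).mpr fun x => ?_
  obtain ⟨W, U, y, hW, hxW, hWU, hy⟩ := exists_affine_chart A (π.left.base x)
  refine ⟨⟨W, hW⟩, ⟨π.left ⁻¹ᵁ W, hW.preimage π.left⟩, hxW, le_rfl, ?_⟩
  show (π.left.appLE W (π.left ⁻¹ᵁ W) le_rfl).hom.FiniteType
  rw [← Scheme.Hom.app_eq_appLE]
  have e : (π.left.app W).hom = (Polynomial.eval₂RingHom (π.left.app W).hom (GLinSh.res π hWU y)).comp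
      Polynomial.C := RingHom.ext fun a => (Polynomial.eval₂_C _ _).symm
  rw [e]
  refine RingHom.FiniteType.comp_surjective ?_ (A.coord U y hy W hW hWU).2
  rw [show (Polynomial.C : Γ(X.left, W) →+* Polynomial Γ(X.left, W)) =
    algebraMap Γ(X.left, W) (Polynomial Γ(X.left, W)) from rfl]
  exact RingHom.finiteType_algebraMap.mpr inferInstance

end Groth.Agent.GITLin
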