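import Groth.Agent.GITLin.Units
import Groth.Agent.GITLin.Chart
import Groth.Agent.GITLin.Total
import Groth.Agent.GrpSchLib.ReducedPoints
import Groth.Agent.GrpSchLib.SmoothReduced
import Groth.Agent.FBaseLib.Product

/-!
# Uniqueness of linearisations for groups without characters
-/

set_option linter.style.haveILetI false
set_option backward.isDefEq.respectTransparency false

universe u

open CategoryTheory MonoidalCategory CartesianMonoidalCategory MonObj GrpObj AlgebraicGeometry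

namespace Groth.Agent.GITLin

open GrpSchLib.Kunneth

variable {k : Type u} [Field k] [IsAlgClosed k]

local notation "𝟙k" => 𝟙_ (Over (Spec (CommRingCat.of k)))

variable {G X V : Over (Spec (CommRingCat.of k))} [GrpObj G] [Smooth G.hom] [QuasiCompact G.hom]
  [ConnectedSpace G.left] {a : AlgGrp.Action G X} {π : V ⟶ X}

omit [Smooth G.hom] [QuasiCompact G.hom] [ConnectedSpace G.left] [IsAlgClosed k] in
theorem lift_act_π {T : Over (Spec (CommRingCat.of k))} (Φ : AlgGrp.Action G V)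
    (hπ : Φ.act ≫ π = (G ◁ π) ≫ a.act) (h : T ⟶ G) (z : T ⟶ V) :
    (lift h z ≫ Φ.act) ≫ π = lift h (z ≫ π) ≫ a.act := by
  rw [Category.assoc, hπ, lift_whiskerLeft_assoc]

/-- `g ↦ g⁻¹ ·₁ (g ·₂ v)`. -/
noncomputable def discr (Φ₁ Φ₂ : AlgGrp.Action G V) (v : 𝟙k ⟶ V) : G ⟶ V :=
  lift (𝟙 G)⁻¹ (lift (𝟙 G) (toUnit G ≫ v) ≫ Φ₂.act) ≫ Φ₁.act

omit [Smooth G.hom] [QuasiCompact G.hom] [ConnectedSpace G.left] [IsAlgClosed k] in
theorem comp_discr (Φ₁ Φ₂ : AlgGrp.Action G V) (v : 𝟙k ⟶ V) (h : 𝟙k ⟶ G) :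
    h ≫ discr Φ₁ Φ₂ v = lift h⁻¹ (lift h v ≫ Φ₂.act) ≫ Φ₁.act := by
  rw [discr, ← Category.assoc, comp_lift, GrpObj.comp_inv, Category.comp_id, ← Category.assoc, comp_lift,
    Category.comp_id, ← Category.assoc, toUnit_unique (h ≫ toUnit G) (𝟙 _), Category.id_comp]

omit [Smooth G.hom] [QuasiCompact G.hom] [ConnectedSpace G.left] [IsAlgClosed k] in
theorem discr_π (Φ₁ Φ₂ : AlgGrp.Action G V) (h₁ : Φ₁.act ≫ π = (G ◁ π) ≫ a.act)
    (h₂ : Φ₂.act ≫ π = (G ◁ π) ≫ a.act) (v : 𝟙k ⟶ V) : discr Φ₁ Φ₂ v ≫ π = toUnit G ≫ v ≫ π := by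
  rw [discr, lift_act_π Φ₁ h₁, lift_act_π Φ₂ h₂, GrpSchLib.act_mul, inv_mul_cancel, GrpSchLib.act_one,
    Category.assoc]

omit [Smooth G.hom] [QuasiCompact G.hom] [ConnectedSpace G.left] [IsAlgClosed k] [GrpObj G] in
/-- A morphism over a constant point lands over any neighbourhood of it. -/
theorem top_le_of_const (m : G ⟶ V) (x : 𝟙k ⟶ X) (hm : m ≫ π = toUnit G ≫ x) {U : X.left.Opens}
    (hU : x.left.base (IsLocalRing.closedPoint k) ∈ U) :
    (⊤ : G.left.Opens) ≤ m.left ⁻¹ᵁ (π.left ⁻¹ᵁ U) := fun t _ => by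
  have e : (m ≫ π).left.base t ∈ U := by
    rw [hm, Over.comp_left, Scheme.Hom.comp_apply]
    rwa [show (toUnit G).left.base t = IsLocalRing.closedPoint k from
      Subsingleton.elim (α := Spec (CommRingCat.of k)) _ _]
  rw [Over.comp_left, Scheme.Hom.comp_apply] at e
  exact e

/-- A morphism over a constant point, nonvanishing on all points, has constant coordinate. -/
theorem pval_const (hχ : ∀ (χ : G ⟶ Red.Gm (Spec (CommRingCat.of k))) [IsMonHom χ], χ = 1)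
    (m : G ⟶ V) (x : 𝟙k ⟶ X) (hm : m ≫ π = toUnit G ≫ x) {U : X.left.Opens}
    (hU : x.left.base (IsLocalRing.closedPoint k) ∈ U) (y : Γ(V.left, π.left ⁻¹ᵁ U))
    (hh : ∀ h : 𝟙k ⟶ G, ((h ≫ m) ≫ π).left.base (IsLocalRing.closedPoint k) ∈ U)
    (hne : ∀ h : 𝟙k ⟶ G, pval π y (h ≫ m) (hh h) ≠ 0) (g : 𝟙k ⟶ G) :
    pval π y (g ≫ m) (hh g) = pval π y (η[G] ≫ m) (hh η[G]) := by
  have hle := top_le_of_const m x hm hU
  have h1 := evPt_eq_of_forall_ne_zero hχ (val π y m hle)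
    (fun h => by rw [evPt_val π y h m hle (hh h)]; exact hne h) g
  rwa [evPt_val π y g m hle (hh g), evPt_val π y η[G] m hle (hh η[G])] at h1

theorem point_eq (hχ : ∀ (χ : G ⟶ Red.Gm (Spec (CommRingCat.of k))) [IsMonHom χ], χ = 1)
    (A : GLinSh.LinAtlas π) (Φ₁ Φ₂ : AlgGrp.Action G V)
    (h₁ : Φ₁.act ≫ π = (G ◁ π) ≫ a.act) (h₂ : Φ₂.act ≫ π = (G ◁ π) ≫ a.act)
    (hl₁ : GLinSh.IsLinearLift a π Φ₁ A.chart h₁) (hl₂ : GLinSh.IsLinearLift a π Φ₂ A.chart h₂)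
    (g : 𝟙k ⟶ G) (v : 𝟙k ⟶ V) : lift g v ≫ Φ₁.act = lift g v ≫ Φ₂.act := by
  obtain ⟨U, hU, y, hy⟩ := A.cover ((v ≫ π).left.base (IsLocalRing.closedPoint k))
  obtain ⟨U', hU', y', hy'⟩ := A.cover ((lift g (v ≫ π) ≫ a.act).left.base (IsLocalRing.closedPoint k))
  have hw₁ : ((lift g v ≫ Φ₁.act) ≫ π).left.base (IsLocalRing.closedPoint k) ∈ U' := by
    rw [lift_act_π Φ₁ h₁]; exact hU'
  have hw₂ : ((lift g v ≫ Φ₂.act) ≫ π).left.base (IsLocalRing.closedPoint k) ∈ U' := by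
    rw [lift_act_π Φ₂ h₂]; exact hU'
  by_cases hv : pval π y v hU = 0
  · obtain ⟨c₁, e₁⟩ := exists_pval_lift π a Φ₁ A h₁ hl₁ hy hy' g v hU hw₁
    obtain ⟨c₂, e₂⟩ := exists_pval_lift π a Φ₂ A h₂ hl₂ hy hy' g v hU hw₂
    rw [hv, mul_zero] at e₁ e₂
    exact eq_of_pval_eq π A y' hy' (by rw [lift_act_π Φ₁ h₁, lift_act_π Φ₂ h₂]) hw₁ hw₂ (e₁.trans e₂.symm)
  have hm := discr_π (a := a) Φ₁ Φ₂ h₁ h₂ v
  have hhm : ∀ h : 𝟙k ⟶ G, (h ≫ discr Φ₁ Φ₂ v) ≫ π = v ≫ π := fun h => by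
    rw [Category.assoc, hm, ← Category.assoc, toUnit_unique (h ≫ toUnit G) (𝟙 _), Category.id_comp]
  have hhU : ∀ h : 𝟙k ⟶ G, ((h ≫ discr Φ₁ Φ₂ v) ≫ π).left.base (IsLocalRing.closedPoint k) ∈ U := fun h => by
    rw [hhm]; exact hU
  have hne : ∀ h : 𝟙k ⟶ G, pval π y (h ≫ discr Φ₁ Φ₂ v) (hhU h) ≠ 0 := by
    intro h
    obtain ⟨U'', hU'', y'', hy''⟩ :=
      A.cover (((lift h v ≫ Φ₂.act) ≫ π).left.base (IsLocalRing.closedPoint k))
    -- `v = h⁻¹ · (h · v)` for `Φ₂`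
    have ev2 : lift h⁻¹ (lift h v ≫ Φ₂.act) ≫ Φ₂.act = v := by
      rw [GrpSchLib.act_mul, inv_mul_cancel, GrpSchLib.act_one]
    have hu2 : ((lift h⁻¹ (lift h v ≫ Φ₂.act) ≫ Φ₂.act) ≫ π).left.base (IsLocalRing.closedPoint k) ∈ U := by
      rw [ev2]; exact hU
    obtain ⟨c, e⟩ := exists_pval_lift π a Φ₂ A h₂ hl₂ hy'' hy h⁻¹ _ hU'' hu2
    rw [pval_congr π y ev2 _ hU] at e
    have hw0 : pval π y'' (lift h v ≫ Φ₂.act) hU'' ≠ 0 := fun h0 => hv (e.trans (mul_eq_zero_of_right c h0))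
    -- `h · v` is `h · (h ≫ discr)` for `Φ₁`
    have ev1 : lift h (h ≫ discr Φ₁ Φ₂ v) ≫ Φ₁.act = lift h v ≫ Φ₂.act := by
      rw [comp_discr, GrpSchLib.act_mul, mul_inv_cancel, GrpSchLib.act_one]
    have hu1 : ((lift h (h ≫ discr Φ₁ Φ₂ v) ≫ Φ₁.act) ≫ π).left.base (IsLocalRing.closedPoint k) ∈ U'' := by
      rw [ev1]; exact hU''
    obtain ⟨d, e'⟩ := exists_pval_lift π a Φ₁ A h₁ hl₁ hy hy'' h _ (hhU h) hu1
    rw [pval_congr π y'' ev1 _ hU''] at e'
    exact fun h0 => hw0 (e'.trans (mul_eq_zero_of_right d h0))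
  have hcst := pval_const hχ (discr Φ₁ Φ₂ v) (v ≫ π) hm hU y hhU hne g
  have hη : η[G] ≫ discr Φ₁ Φ₂ v = v := by
    rw [comp_discr, show (η[G] : 𝟙k ⟶ G) = 1 by rw [Hom.one_def, toUnit_unit, Category.id_comp], inv_one,
      GrpSchLib.act_one, GrpSchLib.act_one]
  rw [pval_congr π y hη _ hU] at hcst
  have hgv : g ≫ discr Φ₁ Φ₂ v = v := eq_of_pval_eq π A y hy (hhm g) (hhU g) hU hcst
  calc lift g v ≫ Φ₁.act = lift g (lift g⁻¹ (lift g v ≫ Φ₂.act) ≫ Φ₁.act) ≫ Φ₁.act := by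
        rw [← comp_discr, hgv]
    _ = lift g v ≫ Φ₂.act := by rw [GrpSchLib.act_mul, mul_inv_cancel, GrpSchLib.act_one]

/-- Two linear lifts of an action of a group without characters agree. -/
theorem act_eq [LocallyOfFiniteType X.hom] [IsReduced X.left]
    (hχ : ∀ (χ : G ⟶ Red.Gm (Spec (CommRingCat.of k))) [IsMonHom χ], χ = 1)
    (A : GLinSh.LinAtlas π) (Φ₁ Φ₂ : AlgGrp.Action G V)
    (h₁ : Φ₁.act ≫ π = (G ◁ π) ≫ a.act) (h₂ : Φ₂.act ≫ π = (G ◁ π) ≫ a.act)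
    (hl₁ : GLinSh.IsLinearLift a π Φ₁ A.chart h₁) (hl₂ : GLinSh.IsLinearLift a π Φ₂ A.chart h₂) :
    Φ₁.act = Φ₂.act := by
  haveI := A.affine
  haveI := isReduced_total A
  haveI := locallyOfFiniteType_proj A
  haveI : LocallyOfFiniteType V.hom := by rw [← Over.w π]; infer_instance
  haveI : GeometricallyReduced G.hom := GrpSchLib.geometricallyReduced_of_smooth G.hom
  haveI : IsReduced (G ⊗ V).left := FBaseLib.isReduced_pullback G.hom V.hom
  haveI : LocallyOfFiniteType (G ⊗ V).hom :=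
    inferInstanceAs (LocallyOfFiniteType (Limits.pullback.fst G.hom V.hom ≫ G.hom))
  let P : Over (Spec (CommRingCat.of k)) := Over.mk (Limits.pullback.fst π.left π.left ≫ V.hom)
  let δ : V ⟶ P := Over.homMk (Limits.pullback.diagonal π.left) (by simp [P])
  haveI : IsClosedImmersion δ.left := inferInstanceAs (IsClosedImmersion (Limits.pullback.diagonal π.left))
  have hπ12 : Φ₁.act.left ≫ π.left = Φ₂.act.left ≫ π.left := congrArg CommaMorphism.left (h₁.trans h₂.symm)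
  let f : G ⊗ V ⟶ P := Over.homMk (Limits.pullback.lift Φ₁.act.left Φ₂.act.left hπ12) (by
    show Limits.pullback.lift _ _ hπ12 ≫ Limits.pullback.fst _ _ ≫ V.hom = _
    rw [Limits.pullback.lift_fst_assoc]
    exact Over.w Φ₁.act)
  obtain ⟨f', hf'⟩ := GrpSchLib.exists_fac_of_points (K := k) f δ fun s => by
    have hσ : Spec.map (CommRingCat.ofHom (algebraMap k k)) = 𝟙 (Spec (CommRingCat.of k)) := by
      rw [Algebra.algebraMap_self, CommRingCat.ofHom_id, Spec.map_id]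
    let e : 𝟙k ⟶ Over.mk (Spec.map (CommRingCat.ofHom (algebraMap k k))) :=
      Over.homMk (𝟙 _) (by rw [Category.id_comp]; exact hσ)
    have hpe := point_eq hχ A Φ₁ Φ₂ h₁ h₂ hl₁ hl₂ (e ≫ s ≫ fst G V) (e ≫ s ≫ snd G V)
    rw [← comp_lift, ← comp_lift, lift_fst_snd, Category.comp_id, Category.assoc, Category.assoc] at hpe
    have hleft : s.left ≫ Φ₁.act.left = s.left ≫ Φ₂.act.left := by
      have := congrArg CommaMorphism.left hpe
      simpa [e] using this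
    refine ⟨s ≫ Φ₁.act, Over.OverMorphism.ext ?_⟩
    show (s.left ≫ Φ₁.act.left) ≫ Limits.pullback.diagonal π.left =
      s.left ≫ Limits.pullback.lift Φ₁.act.left Φ₂.act.left hπ12
    ext
    · rw [Category.assoc, Category.assoc, Category.assoc, Limits.pullback.diagonal_fst, Limits.pullback.lift_fst,
        Category.comp_id]
    · rw [Category.assoc, Category.assoc, Category.assoc, Limits.pullback.diagonal_snd, Limits.pullback.lift_snd,
        Category.comp_id]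
      exact hleft
  have e := congrArg CommaMorphism.left hf'
  change f'.left ≫ Limits.pullback.diagonal π.left = Limits.pullback.lift Φ₁.act.left Φ₂.act.left hπ12 at e
  have e₁ := congrArg (· ≫ Limits.pullback.fst π.left π.left) e
  have e₂ := congrArg (· ≫ Limits.pullback.snd π.left π.left) e
  simp only [Category.assoc, Limits.pullback.diagonal_fst, Limits.pullback.diagonal_snd, Category.comp_id,
    Limits.pullback.lift_fst, Limits.pullback.lift_snd] at e₁ e₂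
  exact Over.OverMorphism.ext (e₁.symm.trans e₂)

end Groth.Agent.GITLin
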