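import Groth.Agent.GrpSchLib.UnitsScheme
import Groth.Agent.Sga3xB.DS

/-!
# Nowhere vanishing functions on a connected group without characters are constant
-/

set_option linter.style.haveILetI false

universe u

open CategoryTheory MonoidalCategory CartesianMonoidalCategory MonObj GrpObj AlgebraicGeometry

namespace Groth.Agent.GITLin

open GrpSchLib.Kunneth Sga3xB Red23Lib.Pinned

variable {k : Type u} [Field k] [IsAlgClosed k]

local notation "𝟙k" => 𝟙_ (Over (Spec (CommRingCat.of k)))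

theorem isUnit_of_forall_evPt {Y : Over (Spec (CommRingCat.of k))} [LocallyOfFiniteType Y.hom] (f : Fn Y)
    (h : ∀ y : 𝟙k ⟶ Y, evPt y f ≠ 0) : IsUnit f := by
  haveI : JacobsonSpace Y.left := LocallyOfFiniteType.jacobsonSpace Y.hom
  have htop : Y.left.basicOpen f = ⊤ := by
    by_contra hne
    have hne' : ((Y.left.basicOpen f : Set Y.left)ᶜ).Nonempty := by
      rw [Set.nonempty_compl]
      exact fun h => hne (SetLike.coe_injective h)
    obtain ⟨w, hw, hwc⟩ := nonempty_inter_closedPoints hne'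
      (Y.left.basicOpen f).isOpen.isClosed_compl.isLocallyClosed
    let s := (pointEquivClosedPoint Y.hom).symm ⟨w, hwc⟩
    have hs : s.1 (IsLocalRing.closedPoint k) = w :=
      congrArg Subtype.val ((pointEquivClosedPoint Y.hom).apply_symm_apply ⟨w, hwc⟩)
    let y : 𝟙k ⟶ Y := Over.homMk s.1 s.2
    have hu : IsUnit (y.left.appTop f) := by
      have h0 : IsUnit ((Scheme.ΓSpecIso (CommRingCat.of k)).hom (y.left.appTop f)) :=
        (isUnit_iff_ne_zero (G₀ := k)).mpr (h y)
      have h1 := h0.map (Scheme.ΓSpecIso (CommRingCat.of k)).inv.hom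
      rwa [← CommRingCat.comp_apply (Scheme.ΓSpecIso (CommRingCat.of k)).hom, Iso.hom_inv_id] at h1
    refine hw ?_
    have h3 := Scheme.preimage_basicOpen_top y.left f
    have h4 : IsLocalRing.closedPoint k ∈ y.left ⁻¹ᵁ Y.left.basicOpen f := by
      rw [h3, Scheme.basicOpen_of_isUnit _ hu]
      trivial
    exact hs ▸ h4
  refine Y.left.toLocallyRingedSpace.toRingedSpace.isUnit_of_isUnit_germ ⊤ f fun x _ => ?_
  have hx : x ∈ Y.left.basicOpen f := (SetLike.ext_iff.mp htop x).mpr trivial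
  exact (Scheme.mem_basicOpen Y.left f x trivial).mp hx

variable {G : Over (Spec (CommRingCat.of k))} [GrpObj G] [Smooth G.hom] [QuasiCompact G.hom] [ConnectedSpace G.left]

/-- A nowhere vanishing function on a connected group without characters is constant. -/
theorem evPt_eq_of_forall_ne_zero
    (hχ : ∀ (χ : G ⟶ Red.Gm (Spec (CommRingCat.of k))) [IsMonHom χ], χ = 1)
    (f : Fn G) (h : ∀ g : 𝟙k ⟶ G, evPt g f ≠ 0) (g : 𝟙k ⟶ G) : evPt g f = evPt η[G] f := by
  let c := evPt η[G] f
  let f₁ : Fn G := algebraMap k (Fn G) c⁻¹ * f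
  have hf₁ : ∀ y : 𝟙k ⟶ G, evPt y f₁ = c⁻¹ * evPt y f := fun y => by
    rw [map_mul, AlgHom.commutes]; rfl
  have hu : IsUnit f₁ := isUnit_of_forall_evPt f₁ fun y => by
    rw [hf₁]; exact mul_ne_zero (inv_ne_zero (h _)) (h y)
  have he : evPt η[G] f₁ = 1 := by rw [hf₁]; exact inv_mul_cancel₀ (h _)
  have hch := unit_isChar hu he
  let χ : G ⟶ Red.Gm (Spec (CommRingCat.of k)) := ofCh (zpowersHom _ hu.unit)
  have hχm : ∀ (m : ℤ), dsCh χ m = hu.unit ^ m := fun m => by rw [dsCh_ofCh]; rfl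
  haveI : IsMonHom χ := by
    refine ⟨?_, ?_⟩
    · have e : (η[Red.Gm (Spec (CommRingCat.of k))] : 𝟙k ⟶ _) = 1 := by
        rw [Hom.one_def, toUnit_unit, Category.id_comp]
      rw [e]
      refine dsCh_ext fun m => ?_
      rw [dsCh_comp', hχm, dsCh_one, map_zpow]
      have : Units.map (η[G]).left.appTop.hom.toMonoidHom hu.unit = 1 :=
        Units.ext ((evPt_eq_one_iff η[G] f₁).mp he)
      rw [this, one_zpow]
    · refine dsCh_ext fun m => ?_
      rw [show (χ ⊗ₘ χ) ≫ μ[Red.Gm (Spec (CommRingCat.of k))] = (fst G G ≫ χ) * (snd G G ≫ χ) from by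
        rw [Hom.mul_def]; congr 1]
      rw [dsCh_mul, dsCh_comp', dsCh_comp', dsCh_comp', hχm, map_zpow, map_zpow, map_zpow, ← mul_zpow]
      congr 1
      exact Units.ext hch
  have h1 : hu.unit = 1 := by
    have := hχm 1
    rwa [hχ χ, dsCh_one, zpow_one, eq_comm] at this
  have h2 : f₁ = 1 := congrArg Units.val h1
  have h3 := hf₁ g
  rw [h2, map_one] at h3
  exact ((inv_mul_eq_one₀ (h (η[G] : 𝟙k ⟶ G))).mp h3.symm).symm

end Groth.Agent.GITLin
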